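import Mathlib
import Cfsg.Agent.H54.J4.Rep
import Cfsg.Agent.H96.J4Irr.Data

/-!
The 112-dimensional representation of the fourth Janko group over the field with two elements is
irreducible, its commutant consists of scalars, and hence no nontrivial 2-subgroup is normalized by
the three generators.
-/

set_option autoImplicit false
set_option maxRecDepth 100000
set_option maxHeartbeats 400000
set_option Elab.async false

namespace H96.J4Irr

open H26.BitCode H54.J4.Rep

/-- vectors -/
abbrev Vec : Type := Fin 112 → ZMod 2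

/-- generator code -/
def gC : ℕ → ℕ
  | 0 => cX
  | 1 => cY
  | _ => cT

/-- generator times first basis -/
def gS : ℕ → ℕ
  | 0 => cXS
  | 1 => cYS
  | _ => cTS

/-- second basis times generator -/
def gR : ℕ → ℕ
  | 0 => cRX
  | 1 => cRY
  | _ => cRT

theorem gS_eq : cXS = mulC cX cS ∧ cYS = mulC cY cS ∧ cTS = mulC cT cS := by decide +kernel

theorem gR_eq : cRX = mulC cR cX ∧ cRY = mulC cR cY ∧ cRT = mulC cR cT := by decide +kernel

theorem matC_gS (g : ℕ) : (matC 112 (gS g) : Mat) = matC 112 (gC g) * matC 112 cS := by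
  rcases g with _ | _ | g <;> simp only [gS, gC, gS_eq, matC_mulC]

theorem matC_gR (g : ℕ) : (matC 112 (gR g) : Mat) = matC 112 cR * matC 112 (gC g) := by
  rcases g with _ | _ | g <;> simp only [gR, gC, gR_eq, matC_mulC]

theorem cA_eq : cA = Nat.xor (Nat.xor cI (mulC cT (mulC cY (mulC cX (mulC cY cX)))))
    (mulC cY (mulC cT cY)) := by decide +kernel

theorem matC_xor (a b : ℕ) : (matC 112 (Nat.xor a b) : Mat) = matC 112 a + matC 112 b := by
  ext i k
  show b2 (Nat.testBit (a ^^^ b) _) = _
  rw [Nat.testBit_xor, b2_xor]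
  rfl

theorem BA_eq : mulC cB cA = cD := by decide +kernel

theorem D_bit : ∀ i k : Fin 112, cbit 112 cD i.val k.val =
    (decide (i = k) ^^ (decide (k = jv) && cbit 112 cS i.val 0)) := by decide +kernel

theorem AS_col : ∀ i : Fin 112, cbit 112 (mulC cA cS) i.val 0 = false := by decide +kernel

theorem RA_row : ∀ k : Fin 112, cbit 112 (mulC cR cA) 0 k.val = false := by decide +kernel

theorem SSi : mulC cS cSi = cI := by decide +kernel

theorem RiR : mulC cRi cR = cI := by decide +kernel

theorem parS_ok : ∀ k : Fin 112, k.val = 0 ∨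
    ((parS.getD k.val (0, 0)).1 < k.val ∧ ∀ i : Fin 112, cbit 112 cS i.val k.val =
      cbit 112 (gS (parS.getD k.val (0, 0)).2) i.val (parS.getD k.val (0, 0)).1) := by
  decide +kernel

theorem parR_ok : ∀ k : Fin 112, k.val = 0 ∨
    ((parR.getD k.val (0, 0)).1 < k.val ∧ ∀ j : Fin 112, cbit 112 cR k.val j.val =
      cbit 112 (gR (parR.getD k.val (0, 0)).2) (parR.getD k.val (0, 0)).1 j.val) := by
  decide +kernel

theorem matC_apply (c : ℕ) (i k : Fin 112) :
    (matC 112 c : Mat) i k = b2 (cbit 112 c i.val k.val) := rfl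

theorem valX : (uX : Mat) = matC 112 cX := rfl
theorem valY : (uY : Mat) = matC 112 cY := rfl
theorem valT : (uT : Mat) = matC 112 cT := rfl

section

attribute [local irreducible] cX cY cT cI cA cB cD cS cSi cR cRi cXS cYS cTS cRX cRY cRT
  mulC matC cbit uX uY uT

/-- invariance under the three generators -/
def Inv (W : Submodule (ZMod 2) Vec) : Prop :=
  ∀ g, ∀ w ∈ W, (matC 112 (gC g) : Mat).mulVec w ∈ W

theorem inv_A {W : Submodule (ZMod 2) Vec} (hW : Inv W) {w : Vec} (hw : w ∈ W) :
    (matC 112 cA : Mat).mulVec w ∈ W := by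
  have hx : ∀ v ∈ W, (matC 112 cX : Mat).mulVec v ∈ W := hW 0
  have hy : ∀ v ∈ W, (matC 112 cY : Mat).mulVec v ∈ W := hW 1
  have ht : ∀ v ∈ W, (matC 112 cT : Mat).mulVec v ∈ W := hW 2
  rw [cA_eq]
  simp only [matC_xor, matC_mulC, matC_cI, Matrix.add_mulVec, Matrix.one_mulVec,
    ← Matrix.mulVec_mulVec]
  exact add_mem (add_mem hw (ht _ (hy _ (hx _ (hy _ (hx _ hw)))))) (hy _ (ht _ (hy _ hw)))

/-- the null vector -/
def v0 : Vec := fun i => b2 (cbit 112 cS i.val 0)

theorem matD_apply (i k : Fin 112) :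
    (matC 112 cD : Mat) i k = (1 : Mat) i k + if k = jv then v0 i else 0 := by
  rw [matC_apply, D_bit, b2_xor, b2_and, Matrix.one_apply, v0]
  by_cases h : i = k <;> by_cases h' : k = jv <;> simp [h, h', b2]

theorem kernel_A {v : Vec} (h : (matC 112 cA : Mat).mulVec v = 0) (hv : v ≠ 0) : v = v0 := by
  have h1 : (matC 112 cD : Mat).mulVec v = 0 := by
    rw [← BA_eq, matC_mulC, ← Matrix.mulVec_mulVec, h, Matrix.mulVec_zero]
  have h2 : ∀ i, v i + v0 i * v jv = 0 := fun i => by
    have h3 := congrFun h1 i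
    simp only [Matrix.mulVec, dotProduct, Pi.zero_apply] at h3
    simpa [matD_apply, add_mul, Finset.sum_add_distrib, Matrix.one_apply, ite_mul] using h3
  have h4 : ∀ i, v i = v0 i * v jv := fun i => CharTwo.add_eq_zero.mp (h2 i)
  have h5 : v jv = 1 := by
    rcases (by decide : ∀ a : ZMod 2, a = 0 ∨ a = 1) (v jv) with h6 | h6
    · exact absurd (funext fun i => by rw [h4 i, h6, mul_zero]; rfl) hv
    · exact h6
  exact funext fun i => by rw [h4 i, h5, mul_one]

theorem A_v0 : (matC 112 cA : Mat).mulVec v0 = 0 := by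
  have h : ∀ i, (matC 112 cA * matC 112 cS : Mat) i ⟨0, by norm_num⟩ = 0 := fun i => by
    rw [← matC_mulC, matC_apply, AS_col i]; rfl
  funext i
  simpa [Matrix.mul_apply, Matrix.mulVec, dotProduct, v0, matC_apply] using h i

theorem spin_top {W : Submodule (ZMod 2) Vec} (hW : Inv W) (h0 : v0 ∈ W) : W = ⊤ := by
  have hc : ∀ k : ℕ, (hk : k < 112) → (fun i => (matC 112 cS : Mat) i ⟨k, hk⟩) ∈ W := by
    intro k
    induction k using Nat.strong_induction_on with
    | _ k ih =>
      intro hk
      rcases parS_ok ⟨k, hk⟩ with h | ⟨hlt, hb⟩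
      · have hk0 : k = 0 := h
        subst hk0
        convert h0 using 1
        exact funext fun i => matC_apply _ _ _
      · dsimp only at hlt hb
        set p := parS.getD k (0, 0)
        have e : (fun i => (matC 112 cS : Mat) i ⟨k, hk⟩) =
            (matC 112 (gC p.2) : Mat).mulVec (fun i => (matC 112 cS : Mat) i ⟨p.1, hlt.trans hk⟩) := by
          funext i
          have e1 := matC_gS p.2
          have e2 := congrFun (congrFun e1 i) ⟨p.1, hlt.trans hk⟩
          rw [Matrix.mul_apply] at e2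
          refine Eq.trans ?_ e2
          rw [matC_apply, matC_apply, hb i]
        rw [e]
        exact hW _ _ (ih _ hlt _)
  rw [eq_top_iff]
  intro v _
  have e : v = (matC 112 cS : Mat).mulVec ((matC 112 cSi : Mat).mulVec v) := by
    rw [Matrix.mulVec_mulVec, ← matC_mulC, matC_eq_one SSi, Matrix.one_mulVec]
  have e2 : ∀ u : Vec, (matC 112 cS : Mat).mulVec u =
      ∑ k : Fin 112, u k • (fun i => (matC 112 cS : Mat) i k) := fun u => by
    funext i
    simp only [Matrix.mulVec, dotProduct, Finset.sum_apply, Pi.smul_apply, smul_eq_mul]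
    exact Finset.sum_congr rfl fun k _ => mul_comm _ _
  rw [e, e2]
  exact sum_mem fun k _ => Submodule.smul_mem W _ (hc k.val k.isLt)

theorem spin_bot {W : Submodule (ZMod 2) Vec} (hW : Inv W)
    (h0 : ∀ w ∈ W, (matC 112 cR : Mat).mulVec w ⟨0, by norm_num⟩ = 0) : W = ⊥ := by
  have hr : ∀ k : ℕ, (hk : k < 112) → ∀ w ∈ W, (matC 112 cR : Mat).mulVec w ⟨k, hk⟩ = 0 := by
    intro k
    induction k using Nat.strong_induction_on with
    | _ k ih =>
      intro hk w hw
      rcases parR_ok ⟨k, hk⟩ with h | ⟨hlt, hb⟩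
      · have hk0 : k = 0 := h
        subst hk0
        exact h0 w hw
      · dsimp only at hlt hb
        set p := parR.getD k (0, 0)
        have e : (matC 112 cR : Mat).mulVec w ⟨k, hk⟩ =
            (matC 112 (gR p.2) : Mat).mulVec w ⟨p.1, hlt.trans hk⟩ := by
          simp only [Matrix.mulVec, dotProduct]
          exact Finset.sum_congr rfl fun j _ => by
            rw [matC_apply, matC_apply, hb j]
        rw [e, matC_gR, ← Matrix.mulVec_mulVec]
        exact ih _ hlt _ _ (hW _ _ hw)
  rw [eq_bot_iff]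
  intro w hw
  have e : (matC 112 cR : Mat).mulVec w = 0 := funext fun k => hr k.val k.isLt w hw
  have : w = (matC 112 cRi : Mat).mulVec ((matC 112 cR : Mat).mulVec w) := by
    rw [Matrix.mulVec_mulVec, ← matC_mulC, matC_eq_one RiR, Matrix.one_mulVec]
  rw [e, Matrix.mulVec_zero] at this
  exact this

theorem surj_on {n : Type*} [Fintype n] (A : Matrix n n (ZMod 2))
    (W : Submodule (ZMod 2) (n → ZMod 2)) (hA : ∀ w ∈ W, A.mulVec w ∈ W)
    (hk : ∀ w ∈ W, A.mulVec w = 0 → w = 0) : ∀ w ∈ W, ∃ u ∈ W, A.mulVec u = w := by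
  have hf : Function.Injective fun w : W => (⟨A.mulVec w.1, hA _ w.2⟩ : W) := by
    intro a b hab
    have h1 : A.mulVec (a.1 - b.1) = 0 := by
      have hab' : A.mulVec a.1 = A.mulVec b.1 := congrArg Subtype.val hab
      rw [Matrix.mulVec_sub, hab', sub_self]
    exact Subtype.ext (sub_eq_zero.mp (hk _ (sub_mem a.2 b.2) h1))
  intro w hw
  obtain ⟨u, hu⟩ := Finite.surjective_of_injective hf ⟨w, hw⟩
  exact ⟨u.1, u.2, congrArg Subtype.val hu⟩

/-- the only invariant subspaces are zero and everything -/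
theorem irreducible {W : Submodule (ZMod 2) Vec} (hW : Inv W) : W = ⊥ ∨ W = ⊤ := by
  by_cases hk : ∃ w ∈ W, w ≠ 0 ∧ (matC 112 cA : Mat).mulVec w = 0
  · obtain ⟨w, hw, hne, hA⟩ := hk
    exact Or.inr (spin_top hW (kernel_A hA hne ▸ hw))
  · push Not at hk
    left
    apply spin_bot hW
    intro w hw
    obtain ⟨u, -, e⟩ := surj_on (matC 112 cA) W (fun v hv => inv_A hW hv)
      (fun v hv hv0 => by_contra fun hne => hk v hv hne hv0) w hw
    rw [← e, Matrix.mulVec_mulVec, ← matC_mulC]
    simp only [Matrix.mulVec, dotProduct]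
    refine Finset.sum_eq_zero fun j _ => ?_
    rw [matC_apply, show cbit 112 (mulC cR cA) (0 : ℕ) j.val = false from RA_row j]; simp [b2]

/-- a unit commuting with the three generators is trivial -/
theorem commutant_trivial {z : Matˣ} (hx : z * uX = uX * z) (hy : z * uY = uY * z)
    (ht : z * uT = uT * z) : z = 1 := by
  have hx' : (z : Mat) * matC 112 cX = matC 112 cX * z := by
    have e := congrArg Units.val hx
    rwa [Units.val_mul, Units.val_mul, valX] at e
  have hy' : (z : Mat) * matC 112 cY = matC 112 cY * z := by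
    have e := congrArg Units.val hy
    rwa [Units.val_mul, Units.val_mul, valY] at e
  have ht' : (z : Mat) * matC 112 cT = matC 112 cT * z := by
    have e := congrArg Units.val ht
    rwa [Units.val_mul, Units.val_mul, valT] at e
  let W : Submodule (ZMod 2) Vec := LinearMap.ker (Matrix.toLin' ((z : Mat) - 1))
  have hmem : ∀ v, v ∈ W ↔ (z : Mat).mulVec v = v := fun v => by
    simp [W, sub_eq_zero]
  have hW : Inv W := by
    intro g w hw
    rw [hmem] at hw ⊢
    rcases g with _ | _ | g <;> simp only [gC] <;> rw [Matrix.mulVec_mulVec]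
    · rw [hx', ← Matrix.mulVec_mulVec, hw]
    · rw [hy', ← Matrix.mulVec_mulVec, hw]
    · rw [ht', ← Matrix.mulVec_mulVec, hw]
  have hzA : (z : Mat) * matC 112 cA = matC 112 cA * z := by
    have hc : ∀ a b : ℕ, Commute (z : Mat) (matC 112 a) → Commute (z : Mat) (matC 112 b) →
        Commute (z : Mat) (matC 112 (mulC a b)) := fun a b ha hb => by
      rw [matC_mulC]; exact ha.mul_right hb
    have cx : Commute (z : Mat) (matC 112 cX) := hx'
    have cy : Commute (z : Mat) (matC 112 cY) := hy'
    have ct : Commute (z : Mat) (matC 112 cT) := ht'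
    rw [cA_eq]
    simp only [matC_xor, matC_cI]
    exact ((Commute.one_right _).add_right (hc _ _ ct (hc _ _ cy (hc _ _ cx (hc _ _ cy cx))))).add_right
      (hc _ _ cy (hc _ _ ct cy))
  have hne : v0 ≠ 0 := fun h => by
    have e := congrFun h jv
    exact absurd e (by decide +kernel)
  have h0 : v0 ∈ W := by
    rw [hmem]
    apply kernel_A
    · rw [Matrix.mulVec_mulVec, ← hzA, ← Matrix.mulVec_mulVec, A_v0, Matrix.mulVec_zero]
    · intro h
      apply hne
      have : v0 = ((z⁻¹ : Matˣ) : Mat).mulVec ((z : Mat).mulVec v0) := by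
        rw [Matrix.mulVec_mulVec, Units.inv_mul, Matrix.one_mulVec]
      rw [h, Matrix.mulVec_zero] at this
      exact this
  have htop := spin_top hW h0
  apply Units.ext
  apply Matrix.toLin'.injective
  apply LinearMap.ext
  intro v
  have hv : v ∈ W := htop ▸ Submodule.mem_top
  rw [hmem] at hv
  simpa using hv

/-- no nontrivial 2-subgroup is normalized by the three generators -/
theorem pGroup_trivial (P : Subgroup Matˣ) (hP : IsPGroup 2 P)
    (hn : ∀ g ∈ ({uX, uY, uT} : Set Matˣ), ∀ p ∈ P, g⁻¹ * p * g ∈ P) : P = ⊥ := by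
  let W : Submodule (ZMod 2) Vec :=
    { carrier := {v | ∀ p ∈ P, (p : Mat).mulVec v = v}
      add_mem' := fun ha hb p hp => by rw [Matrix.mulVec_add, ha p hp, hb p hp]
      zero_mem' := fun p _ => Matrix.mulVec_zero _
      smul_mem' := fun c v hv p hp => by rw [Matrix.mulVec_smul, hv p hp] }
  have key : ∀ (g : Matˣ), g ∈ ({uX, uY, uT} : Set Matˣ) → ∀ w ∈ W, (g : Mat).mulVec w ∈ W := by
    intro g hg w hw p hp
    have h1 := hw _ (hn g hg p hp)
    have h2 : (p : Mat) * (g : Mat) = (g : Mat) * ((g⁻¹ * p * g : Matˣ) : Mat) := by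
      rw [← Units.val_mul, ← Units.val_mul]
      exact congrArg Units.val (by group : p * g = g * (g⁻¹ * p * g))
    rw [Matrix.mulVec_mulVec, h2, ← Matrix.mulVec_mulVec, h1]
  have hW : Inv W := by
    intro g
    rcases g with _ | _ | g <;> simp only [gC]
    · rw [← valX]; exact key uX (Or.inl rfl)
    · rw [← valY]; exact key uY (Or.inr (Or.inl rfl))
    · rw [← valT]; exact key uT (Or.inr (Or.inr rfl))
  let act : MulAction P Vec :=
    { smul := fun p v => ((p : Matˣ) : Mat).mulVec v
      one_smul := fun v => Matrix.one_mulVec v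
      mul_smul := fun p q v => (Matrix.mulVec_mulVec v _ _).symm }
  have hcard : 2 ∣ Nat.card Vec := by
    rw [Nat.card_fun, Nat.card_zmod, Nat.card_fin]; exact dvd_pow_self 2 (by norm_num)
  obtain ⟨v, hv, hne⟩ :=
    @IsPGroup.exists_fixed_point_of_prime_dvd_card_of_fixed_point _ _ _ hP _ Vec act _ hcard
      (0 : Vec) (fun p => Matrix.mulVec_zero _)
  rcases irreducible hW with h | h
  · exfalso
    have hvW : v ∈ W := fun p hp => hv ⟨p, hp⟩
    rw [h] at hvW
    exact hne ((Submodule.mem_bot _).mp hvW).symm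
  · rw [eq_bot_iff]
    intro p hp
    rw [Subgroup.mem_bot]
    apply Units.ext
    apply Matrix.toLin'.injective
    apply LinearMap.ext
    intro u
    have hu : u ∈ W := h ▸ Submodule.mem_top
    simpa using hu p hp

end

end H96.J4Irr
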