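import Mathlib
import Cfsg.Agent.H54.J4.Embed

/-!
The presented fourth Janko group has no homomorphism to permutations of 24 points extending the
natural action of the Mathieu subgroup.
-/

set_option autoImplicit false
set_option maxRecDepth 100000

namespace H96.J4Irr

open H54.J4

/-- the natural action of the seven-relator group -/
noncomputable def toPerm : Pres →* Equiv.Perm (Fin 24) :=
  PresentedGroup.toGroup (f := ![permX, permY]) (by
    rintro r ⟨w, hw, rfl⟩
    rw [map_ev]
    simpa using perm_rels w hw)

theorem toPerm_gA : toPerm gA = permX := by simp [toPerm, gA]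
theorem toPerm_gB : toPerm gB = permY := by simp [toPerm, gB]

/-- the image of y -/
def pY : Equiv.Perm (Fin 24) := permY⁻¹

/-- the second centralised element -/
def pW : Equiv.Perm (Fin 24) := pY * permX * pY * (permX * pY⁻¹) ^ 2 * (permX * pY) ^ 3

/-- product of a word in the two centralised elements -/
def wordP (l : List Bool) : Equiv.Perm (Fin 24) :=
  (l.map fun b => if b then pW else permX).prod

/-- words fixing the first point -/
def fixWords : List (List Bool) :=
  [[true, true], [true, false, true, true, false, true],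
    [false, true, true, false, true, true, false, true, true, false]]

/-- words moving the first point to every point -/
def transWords : List (List Bool) :=
  [[],
    [true, true, true, false, true, false, true, false],
    [false, true],
    [true, false],
    [true, false, true, false],
    [true, false, true],
    [true, false, true, true, false],
    [true, false, true, false, true, false],
    [false, true, false, true],
    [true, false, true, true, true, false],
    [false],
    [true, false, true, false, true],
    [true, true, false, true, false],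
    [true, true, false, true, false, true],
    [true, true, false],
    [true, true, true, false],
    [true, true, true, false, true, false, true],
    [false, true, true, false],
    [false, true, false],
    [true, true, false, true, false, true, false],
    [true],
    [false, true, true, true, false],
    [true, true, true, false, true, false],
    [false, true, false, true, false]]

theorem fix_ok : ∀ l ∈ fixWords, wordP l 0 = 0 := by decide +kernel

theorem move_ok : ∀ b : Fin 24, b = 0 ∨ ∃ l ∈ fixWords, wordP l b ≠ b := by decide +kernel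

theorem trans_ok : ∀ b : Fin 24, wordP (transWords.getD b.val []) 0 = b := by decide +kernel

theorem last_ne : ((pY * permX * pY * permX * pY * permX * pY) ^ 3) ^ 2 ≠ 1 := by decide +kernel

theorem commute_word {p : Equiv.Perm (Fin 24)} (hx : Commute p permX) (hw : Commute p pW)
    (l : List Bool) : Commute p (wordP l) := by
  induction l with
  | nil => simp [wordP]
  | cons b l ih =>
    simp only [wordP, List.map_cons, List.prod_cons]
    cases b
    · exact hx.mul_right ih
    · exact hw.mul_right ih

theorem centralizer_trivial {p : Equiv.Perm (Fin 24)} (hx : Commute p permX)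
    (hw : Commute p pW) : p = 1 := by
  have h0 : p 0 = 0 := by
    by_contra hne
    obtain h | ⟨l, hl, hmove⟩ := move_ok (p 0)
    · exact hne h
    · apply hmove
      have e := Equiv.Perm.congr_fun (commute_word hx hw l).eq 0
      rw [Equiv.Perm.mul_apply, Equiv.Perm.mul_apply, fix_ok l hl] at e
      exact e.symm
  ext1 b
  have e := Equiv.Perm.congr_fun (commute_word hx hw (transWords.getD b.val [])).eq 0
  rw [Equiv.Perm.mul_apply, Equiv.Perm.mul_apply, h0, trans_ok b] at e
  exact e

/-- generators of the presented group -/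
abbrev gx : Cfsg.Spor.J4 := PresentedGroup.of Cfsg.Spor.J4.Gen.x
/-- generators of the presented group -/
abbrev gy : Cfsg.Spor.J4 := PresentedGroup.of Cfsg.Spor.J4.Gen.y
/-- generators of the presented group -/
abbrev gt : Cfsg.Spor.J4 := PresentedGroup.of Cfsg.Spor.J4.Gen.t

/-- there is no extension of the natural action -/
theorem no_perm_hom (F : Cfsg.Spor.J4 →* Equiv.Perm (Fin 24)) (hx : F gx = permX)
    (hy : F gy = pY) : False := by
  have rel : ∀ r ∈ Cfsg.Spor.J4.extra,
      F (PresentedGroup.mk (Cfsg.Spor.coxRelators Cfsg.Spor.J4.edges ∪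
        {r | r ∈ Cfsg.Spor.J4.extra}) r) = 1 :=
    fun r hr => by rw [PresentedGroup.one_of_mem (Or.inr hr), map_one]
  have fx : F (PresentedGroup.mk _ Cfsg.Spor.J4.x) = permX := hx
  have fy : F (PresentedGroup.mk _ Cfsg.Spor.J4.y) = pY := hy
  set p := F (PresentedGroup.mk _ Cfsg.Spor.J4.t) with hp
  have hw : Commute p pW := by
    have h := rel ((Cfsg.Spor.J4.t)⁻¹ * (Cfsg.Spor.J4.y * Cfsg.Spor.J4.x * Cfsg.Spor.J4.y *
      ((Cfsg.Spor.J4.x * (Cfsg.Spor.J4.y⁻¹)) ^ 2) * ((Cfsg.Spor.J4.x * Cfsg.Spor.J4.y) ^ 3))⁻¹ *
      Cfsg.Spor.J4.t * (Cfsg.Spor.J4.y * Cfsg.Spor.J4.x * Cfsg.Spor.J4.y *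
      ((Cfsg.Spor.J4.x * (Cfsg.Spor.J4.y⁻¹)) ^ 2) * ((Cfsg.Spor.J4.x * Cfsg.Spor.J4.y) ^ 3)))
      (by simp [Cfsg.Spor.J4.extra])
    simp only [map_mul, map_inv, map_pow, fx, fy, ← hp] at h
    rw [← pW] at h
    change p * pW = pW * p
    calc p * pW = pW * p * (p⁻¹ * pW⁻¹ * p * pW) := by group
      _ = pW * p := by rw [h, mul_one]
  have hc : Commute p permX := by
    have h := rel ((Cfsg.Spor.J4.t)⁻¹ * (Cfsg.Spor.J4.x)⁻¹ * Cfsg.Spor.J4.t * Cfsg.Spor.J4.x)
      (by simp [Cfsg.Spor.J4.extra])
    simp only [map_mul, map_inv, fx, ← hp] at h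
    change p * permX = permX * p
    calc p * permX = permX * p * (p⁻¹ * permX⁻¹ * p * permX) := by group
      _ = permX * p := by rw [h, mul_one]
  have p1 : p = 1 := centralizer_trivial hc hw
  have h := rel ((((Cfsg.Spor.J4.y * Cfsg.Spor.J4.x * Cfsg.Spor.J4.y * Cfsg.Spor.J4.x *
      Cfsg.Spor.J4.y * Cfsg.Spor.J4.x * Cfsg.Spor.J4.y) ^ 3) * Cfsg.Spor.J4.t *
      ((((Cfsg.Spor.J4.x * Cfsg.Spor.J4.y) ^ 3) * Cfsg.Spor.J4.y *
        ((Cfsg.Spor.J4.x * Cfsg.Spor.J4.y) ^ 6) * Cfsg.Spor.J4.y)⁻¹ * Cfsg.Spor.J4.t *
      (((Cfsg.Spor.J4.x * Cfsg.Spor.J4.y) ^ 3) * Cfsg.Spor.J4.y *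
        ((Cfsg.Spor.J4.x * Cfsg.Spor.J4.y) ^ 6) * Cfsg.Spor.J4.y))) ^ 2)
    (by simp [Cfsg.Spor.J4.extra])
  simp only [map_mul, map_inv, map_pow, fx, fy, ← hp, p1, mul_one, inv_mul_cancel] at h
  exact last_ne h

end H96.J4Irr
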